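import Mathlib
import Cfsg.Agent.H639.Sec
import Cfsg.Agent.H651.LocalPair
import Cfsg.Agent.H649.PairInduced
import Cfsg.Agent.H644.ConjMax
import Cfsg.Agent.H644.Uniq
set_option linter.all false

-- part: H639/Rip
section
/-!
# Columns of a block of `C_G(R)` at `p`-elements, in terms of functions on `G`

Functions on subgroups are extended by zero to `G` (`ex`).  For `(R, b) ≤ (Q, b')` normal Brauer
pairs with `Q = R ⟨v⟩`, `v ∈ C_G(R)`:

* `rip p L f g`: the inner product over the `p`-regular elements of the subgroup `L`;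
* `col p Q v f g = rip p C_G(Q) (x ↦ f (v x)) g`;
* `col_eq_zero`, `sum_col_mul_conj_col`, `sum_col_ne_block`, `sum_col_not_conj`, `sum_col_ne`,
  `apply_eq_zero_of_col`.
-/

set_option autoImplicit false
set_option linter.unusedSectionVars false

open Cfsg
open scoped ComplexConjugate

namespace Cfsg.Agent.H639

open Cfsg.Agent.Blocks.Blau Cfsg.Agent.Blocks.Local Cfsg.Agent.Characters
open Cfsg.Agent.H613.RegGram Cfsg.Agent.H613.Contrib
open Cfsg.Agent.H649 Cfsg.Agent.H651
open Cfsg.Agent.Blocks.Basic (isPBlock_blockOf mem_blockOf_self isPBlock_eq_blockOf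
  isPBlock_eq_of_mem)

universe u

section defs

variable {G : Type u} [Group G]

open Classical in
/-- Extension by zero of a function on a subgroup. -/
noncomputable def ex {L : Subgroup G} (f : L → ℂ) : G → ℂ :=
  fun g => if h : g ∈ L then f ⟨g, h⟩ else 0

theorem ex_coe {L : Subgroup G} (f : L → ℂ) (g : L) : ex f (g : G) = f g := dif_pos g.2

theorem ex_of_mem {L : Subgroup G} (f : L → ℂ) {g : G} (h : g ∈ L) : ex f g = f ⟨g, h⟩ :=
  dif_pos h

theorem ex_of_notMem {L : Subgroup G} (f : L → ℂ) {g : G} (h : g ∉ L) : ex f g = 0 := dif_neg h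

/-- Extension by zero of an irreducible character of a subgroup. -/
noncomputable def ei {L : Subgroup G} (χ : IrrCharacter L) : G → ℂ := ex χ.1

theorem ei_def {L : Subgroup G} (χ : IrrCharacter L) : ei χ = ex (χ : L → ℂ) := rfl

theorem ei_coe {L : Subgroup G} (χ : IrrCharacter L) (g : L) : ei χ (g : G) = (χ : L → ℂ) g :=
  dif_pos g.2

theorem ei_of_mem {L : Subgroup G} (χ : IrrCharacter L) {g : G} (h : g ∈ L) :
    ei χ g = (χ : L → ℂ) ⟨g, h⟩ := dif_pos h

theorem ei_of_notMem {L : Subgroup G} (χ : IrrCharacter L) {g : G} (h : g ∉ L) : ei χ g = 0 :=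
  dif_neg h

open Classical in
/-- The inner product over the `p`-regular elements of a subgroup. -/
noncomputable def rip [Fintype G] (p : ℕ) (L : Subgroup G) (f g : G → ℂ) : ℂ :=
  (Nat.card L : ℂ)⁻¹ * ∑ x : G, if x ∈ L ∧ ¬ p ∣ orderOf x then f x * conj (g x) else 0

/-- The column at `v`. -/
noncomputable def col [Fintype G] (p : ℕ) (Q : Subgroup G) (v : G) (f g : G → ℂ) : ℂ :=
  rip p (Subgroup.centralizer (Q : Set G)) (fun x => f (v * x)) g

theorem col_def [Fintype G] (p : ℕ) (Q : Subgroup G) (v : G) (f g : G → ℂ) :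
    col p Q v f g = rip p (Subgroup.centralizer (Q : Set G)) (fun x => f (v * x)) g := rfl

open Classical in
theorem rip_def [Fintype G] (p : ℕ) (L : Subgroup G) (f g : G → ℂ) :
    rip p L f g = (Nat.card L : ℂ)⁻¹ *
      ∑ x : G, if x ∈ L ∧ ¬ p ∣ orderOf x then f x * conj (g x) else 0 := rfl

open Classical in
theorem rip_eq_sum [Fintype G] (p : ℕ) (L : Subgroup G) [Fintype L] (f g : G → ℂ) :
    rip p L f g = (Nat.card L : ℂ)⁻¹ *
      ∑ y : L with ¬ p ∣ orderOf y, f y * conj (g y) := by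
  rw [rip_def]
  congr 1
  rw [← Finset.sum_filter, Finset.sum_filter (s := (Finset.univ : Finset L))]
  have h : ∀ y : L, (if ¬ p ∣ orderOf y then f y * conj (g y) else 0) =
      (fun x : G => if ¬ p ∣ orderOf x then f x * conj (g x) else 0) (y : G) := by
    intro y
    simp only [Subgroup.orderOf_coe]
  simp_rw [h]
  have h3 : ∑ x : L, (fun x : G => if ¬ p ∣ orderOf x then f x * conj (g x) else 0) (x : G) =
      ∑ x ∈ Finset.univ.map (Function.Embedding.subtype (· ∈ L)),
        (fun x : G => if ¬ p ∣ orderOf x then f x * conj (g x) else 0) x := by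
    rw [Finset.sum_map]
    rfl
  rw [h3, ← Finset.sum_filter]
  refine Finset.sum_congr ?_ fun _ _ => rfl
  ext x
  simp [and_comm]

theorem rip_ex_ex [Fintype G] (p : ℕ) {L : Subgroup G} [Fintype L] (f g : L → ℂ) :
    rip p L (ex f) (ex g) = rg p f g := by
  classical
  rw [rip_eq_sum, rg_def, pair_eq_sum_filter]
  simp only [ex_coe]

theorem rip_ei_ei [Fintype G] (p : ℕ) {L : Subgroup G} [Fintype L] (χ ψ : IrrCharacter L) :
    rip p L (ei χ) (ei ψ) = rg p (χ : L → ℂ) (ψ : L → ℂ) := rip_ex_ex p _ _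

theorem conj_rip [Fintype G] (p : ℕ) (L : Subgroup G) (f g : G → ℂ) :
    conj (rip p L f g) = rip p L g f := by
  classical
  rw [rip_def, rip_def, map_mul, map_inv₀, Complex.conj_natCast, map_sum]
  congr 1
  refine Finset.sum_congr rfl fun x _ => ?_
  split_ifs
  · rw [map_mul, Complex.conj_conj, mul_comm]
  · exact map_zero _

theorem rip_congr [Fintype G] (p : ℕ) (L : Subgroup G) {f f' g g' : G → ℂ}
    (h : ∀ x ∈ L, ¬ p ∣ orderOf x → f x = f' x) (h' : ∀ x ∈ L, ¬ p ∣ orderOf x → g x = g' x) :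
    rip p L f g = rip p L f' g' := by
  classical
  rw [rip_def, rip_def]
  congr 1
  refine Finset.sum_congr rfl fun x _ => ?_
  split_ifs with hx
  · rw [h x hx.1 hx.2, h' x hx.1 hx.2]
  · rfl

theorem rip_smul_left [Fintype G] (p : ℕ) (L : Subgroup G) (c : ℂ) (f g : G → ℂ) :
    rip p L (fun x => c * f x) g = c * rip p L f g := by
  classical
  rw [rip_def, rip_def]
  have h : ∀ x : G, (if x ∈ L ∧ ¬ p ∣ orderOf x then c * f x * conj (g x) else 0) =
      c * (if x ∈ L ∧ ¬ p ∣ orderOf x then f x * conj (g x) else 0) := by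
    intro x
    split_ifs <;> ring
  simp_rw [h]
  rw [← Finset.mul_sum]
  ring

theorem rip_smul_right [Fintype G] (p : ℕ) (L : Subgroup G) (c : ℂ) (f g : G → ℂ) :
    rip p L f (fun x => c * g x) = conj c * rip p L f g := by
  rw [← conj_rip, rip_smul_left, map_mul, conj_rip]

theorem rip_sum_left [Fintype G] (p : ℕ) (L : Subgroup G) {ι : Type*} (s : Finset ι)
    (f : ι → G → ℂ) (g : G → ℂ) :
    rip p L (fun x => ∑ i ∈ s, f i x) g = ∑ i ∈ s, rip p L (f i) g := by
  classical
  simp only [rip_def]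
  rw [← Finset.mul_sum, Finset.sum_comm]
  congr 1
  refine Finset.sum_congr rfl fun x _ => ?_
  split_ifs
  · rw [Finset.sum_mul]
  · simp

theorem col_sum_left [Fintype G] (p : ℕ) (Q : Subgroup G) (v : G) {ι : Type*} (s : Finset ι)
    (f : ι → G → ℂ) (g : G → ℂ) :
    col p Q v (fun x => ∑ i ∈ s, f i x) g = ∑ i ∈ s, col p Q v (f i) g := by
  simp only [col_def]
  exact rip_sum_left p _ s (fun i x => f i (v * x)) g

theorem col_smul_left [Fintype G] (p : ℕ) (Q : Subgroup G) (v : G) (c : ℂ) (f g : G → ℂ) :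
    col p Q v (fun x => c * f x) g = c * col p Q v f g := by
  simp only [col_def]
  exact rip_smul_left p _ c (fun x => f (v * x)) g

theorem col_smul_right [Fintype G] (p : ℕ) (Q : Subgroup G) (v : G) (c : ℂ) (f g : G → ℂ) :
    col p Q v f (fun x => c * g x) = conj c * col p Q v f g := by
  simp only [col_def]
  exact rip_smul_right p _ c (fun x => f (v * x)) g

/-- Conjugation of functions. -/
def cf (h : G) (f : G → ℂ) : G → ℂ := fun x => f (h⁻¹ * x * h)

theorem cf_apply (h : G) (f : G → ℂ) (x : G) : cf h f x = f (h⁻¹ * x * h) := rfl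

theorem orderOf_conj (h x : G) : orderOf (h * x * h⁻¹) = orderOf x :=
  Cfsg.Agent.Blocks.Blau.orderOf_conj_eq x h

theorem rip_cf [Fintype G] (p : ℕ) {L L' : Subgroup G} (h : G)
    (hL : ∀ x, x ∈ L ↔ h * x * h⁻¹ ∈ L') (f g : G → ℂ) :
    rip p L' (cf h f) (cf h g) = rip p L f g := by
  classical
  have hcard : Nat.card L' = Nat.card L := by
    refine Nat.card_congr
      { toFun := fun x => ⟨h⁻¹ * x * h, (hL _).2 (by simpa [mul_assoc] using x.2)⟩
        invFun := fun x => ⟨h * x * h⁻¹, (hL _).1 x.2⟩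
        left_inv := fun x => Subtype.ext (by simp [mul_assoc])
        right_inv := fun x => Subtype.ext (by simp [mul_assoc]) }
  rw [rip_def, rip_def, hcard]
  congr 1
  rw [← Equiv.sum_comp (MulAut.conj h).toEquiv]
  refine Finset.sum_congr rfl fun x _ => ?_
  have h1 : (MulAut.conj h).toEquiv x = h * x * h⁻¹ := rfl
  rw [h1, orderOf_conj, ← hL, cf_apply, cf_apply]
  have h2 : h⁻¹ * (h * x * h⁻¹) * h = x := by group
  rw [h2]

end defs

end Cfsg.Agent.H639
end

-- part: H639/Col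
section
/-!
# Columns of a block of `C_G(R)` for normal Brauer pairs `(R, b) ≤ (R ⟨v⟩, b')`
-/

set_option autoImplicit false
set_option linter.unusedSectionVars false

open Cfsg
open scoped ComplexConjugate

namespace Cfsg.Agent.H639

open Cfsg.Agent.Blocks.Blau Cfsg.Agent.Blocks.Local Cfsg.Agent.Characters
open Cfsg.Agent.H613.RegGram Cfsg.Agent.H613.Contrib
open Cfsg.Agent.H649 Cfsg.Agent.H651
open Cfsg.Agent.Blocks.Basic (isPBlock_blockOf mem_blockOf_self isPBlock_eq_blockOf
  isPBlock_eq_of_mem)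

universe u

variable {G : Type u} [Group G] [Fintype G] {p : ℕ} [Fact p.Prime] {M : Ideal AlgInt}

theorem centralizer_zpowers {K : Type*} [Group K] (u : K) :
    Subgroup.centralizer ((Subgroup.zpowers u : Subgroup K) : Set K) =
      Subgroup.centralizer ({u} : Set K) := by
  ext x
  rw [Subgroup.mem_centralizer_singleton_iff]
  constructor
  · intro h
    exact (Subgroup.mem_centralizer_iff.1 h u (Subgroup.mem_zpowers u)).symm
  · intro h
    rw [Subgroup.mem_centralizer_iff]
    rintro w ⟨n, rfl⟩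
    exact (show Commute u x from h.symm).zpow_left n

theorem isPGroup_zpowers {K : Type*} [Group K] {u : K} (hu : ∃ k : ℕ, orderOf u = p ^ k) :
    IsPGroup p (Subgroup.zpowers u) := by
  obtain ⟨k, hk⟩ := hu
  refine IsPGroup.of_card (n := k) ?_
  rw [Nat.card_zpowers, hk]

theorem locSub_zpowers (R : Subgroup G) (u : Subgroup.centralizer (R : Set G)) :
    locSub R (Subgroup.zpowers u) = R ⊔ Subgroup.zpowers (u : G) := by
  rw [locSub, MonoidHom.map_zpowers]
  rfl

theorem wt_eq_col {R : Subgroup G} (u : Subgroup.centralizer (R : Set G))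
    (S : Subgroup (Subgroup.centralizer (R : Set G)))
    [Fintype (Subgroup.centralizer (S : Set (Subgroup.centralizer (R : Set G))))]
    (hu : u ∈ Subgroup.centralizer (S : Set (Subgroup.centralizer (R : Set G))))
    (χ : Subgroup.centralizer (R : Set G) → ℂ)
    (η : IrrCharacter (Subgroup.centralizer (S : Set (Subgroup.centralizer (R : Set G))))) :
    wt p u χ η.1 =
      col p (locSub R S) (u : G) (ex χ) (ei (irrMap (locIso R S) η)) := by
  classical
  have : Fintype (Subgroup.centralizer ((locSub R S : Subgroup G) : Set G)) := Fintype.ofFinite _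
  rw [wt_eq_sum, col_def, rip_eq_sum, Nat.card_congr (locIso R S).toEquiv]
  congr 1
  rw [Finset.sum_filter, Finset.sum_filter, ← Equiv.sum_comp (locIso R S).toEquiv]
  refine Finset.sum_congr rfl fun y _ => ?_
  have h1 : ((locIso R S).toEquiv y : G) = ((y : Subgroup.centralizer (R : Set G)) : G) := rfl
  have h2 : orderOf ((locIso R S).toEquiv y) = orderOf y := (locIso R S).orderOf_eq y
  have h3 : (u : G) * ((y : Subgroup.centralizer (R : Set G)) : G) =
      ((u * (y : Subgroup.centralizer (R : Set G)) : Subgroup.centralizer (R : Set G)) : G) := rfl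
  rw [h2, h1, h3, ex_coe, ← h1, ei_coe]
  have h4 : (irrMap (locIso R S) η).1 ((locIso R S).toEquiv y) = η.1 y :=
    irrMap_apply' (locIso R S) η y
  rw [h4]

section Pair

variable {R Q : Subgroup G} {v : G}
  {b : Set (IrrCharacter (Subgroup.centralizer (R : Set G)))}
  {b' : Set (IrrCharacter (Subgroup.centralizer (Q : Set G)))}

/-- The data for the translation. -/
theorem exists_loc (hM : IsPModular p M) (hv : v ∈ Subgroup.centralizer (R : Set G))
    (hvp : ∃ k : ℕ, orderOf v = p ^ k) (hQ : Q = R ⊔ Subgroup.zpowers v)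
    (hn : IsNormalSubpair p M R b Q b') :
    ∃ (H : Subgroup (Subgroup.centralizer (R : Set G)))
      (e : H ≃* Subgroup.centralizer (Q : Set G)),
      H = Subgroup.centralizer ({(⟨v, hv⟩ : Subgroup.centralizer (R : Set G))} :
        Set (Subgroup.centralizer (R : Set G))) ∧
      (∀ y : H, ((e y : Subgroup.centralizer (Q : Set G)) : G) =
        ((y : Subgroup.centralizer (R : Set G)) : G)) ∧
      IsInducedBlock M H (blkMap e.symm b') b ∧
      ∀ (inst : Fintype H) (χ : Subgroup.centralizer (R : Set G) → ℂ) (η : IrrCharacter H),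
        wt p (⟨v, hv⟩ : Subgroup.centralizer (R : Set G)) χ (η : H → ℂ) =
          col p Q v (ex χ) (ei (irrMap e η)) := by
  have := isPrime_of_isPModular hM
  set u : Subgroup.centralizer (R : Set G) := ⟨v, hv⟩ with hu
  have hup : ∃ k : ℕ, orderOf u = p ^ k := by
    obtain ⟨k, hk⟩ := hvp
    exact ⟨k, by rw [← Subgroup.orderOf_coe]; exact hk⟩
  have hQ' : Q = locSub R (Subgroup.zpowers u) := by rw [locSub_zpowers, hQ]
  clear hQ
  subst hQ'
  refine ⟨Subgroup.centralizer ((Subgroup.zpowers u : Subgroup _) : Set _),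
    locIso R (Subgroup.zpowers u), centralizer_zpowers u, fun _ => rfl, ?_, ?_⟩
  · have h1 : b' = locBlk R (Subgroup.zpowers u)
        (blkMap (locIso R (Subgroup.zpowers u)).symm b') := by
      rw [locBlk, blkMap_blkMap_symm]
    rw [h1] at hn
    have h2 := (isNormalSubpair_locBlk_iff hn.1.1 hn.1.2 (isPGroup_zpowers hup)).1 hn
    exact (isBrauerPairOf_iff_isInducedBlock hM hn.1.2 (isPGroup_zpowers hup) h2.1.2).1 h2
  · intro inst χ η
    refine wt_eq_col u (Subgroup.zpowers u) ?_ χ η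
    rw [centralizer_zpowers, Subgroup.mem_centralizer_singleton_iff]

/-- The column of `(Q, b')` vanishes at the characters outside `b`. -/
theorem col_eq_zero (hM : IsPModular p M) (hv : v ∈ Subgroup.centralizer (R : Set G))
    (hvp : ∃ k : ℕ, orderOf v = p ^ k) (hQ : Q = R ⊔ Subgroup.zpowers v)
    (hn : IsNormalSubpair p M R b Q b')
    {χ : IrrCharacter (Subgroup.centralizer (R : Set G))} (hχ : χ ∉ b)
    {ξ : IrrCharacter (Subgroup.centralizer (Q : Set G))} (hξ : ξ ∈ b') :
    col p Q v (ei χ) (ei ξ) = 0 := by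
  have := isPrime_of_isPModular hM
  obtain ⟨H, e, hH, -, h1, h2⟩ := exists_loc hM hv hvp hQ hn
  have inst : Fintype H := Fintype.ofFinite H
  have h3 := h2 inst χ.1 (irrMap e.symm ξ)
  have h4 : irrMap e (irrMap e.symm ξ) = ξ := irrMap_irrMap_symm e ξ
  rw [h4, ← ei_def] at h3
  rw [← h3]
  have hup : ∃ k : ℕ, orderOf (⟨v, hv⟩ : Subgroup.centralizer (R : Set G)) = p ^ k := by
    obtain ⟨k, hk⟩ := hvp
    exact ⟨k, by rw [← Subgroup.orderOf_coe]; exact hk⟩
  refine wt_eq_zero hM hup hH (isPBlock_blockOf χ) (mem_blockOf_self χ) ?_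
  intro h5
  have h6 : irrMap e.symm ξ ∈ blkMap e.symm b' := irrMap_mem_blkMap.2 hξ
  rw [← isPBlock_eq_blockOf h1.1 h6] at h5
  have h7 := Cfsg.Agent.Blocks.CentralizerSum.inducedBlock_unique h1 h5
  apply hχ
  rw [h7]
  exact mem_blockOf_self χ

/-- Column orthogonality for `(Q, b')`. -/
theorem sum_col_mul_conj_col (hM : IsPModular p M) (hv : v ∈ Subgroup.centralizer (R : Set G))
    (hvp : ∃ k : ℕ, orderOf v = p ^ k) (hQ : Q = R ⊔ Subgroup.zpowers v)
    (hn : IsNormalSubpair p M R b Q b') [Fintype b]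
    {ξ ξ' : IrrCharacter (Subgroup.centralizer (Q : Set G))} (hξ : ξ ∈ b') (hξ' : ξ' ∈ b') :
    ∑ χ : b, col p Q v (ei χ.1) (ei ξ) *
      conj (col p Q v (ei χ.1) (ei ξ')) =
    rip p (Subgroup.centralizer (Q : Set G)) (ei ξ') (ei ξ) := by
  classical
  have := isPrime_of_isPModular hM
  obtain ⟨H, e, hH, he, h1, h2⟩ := exists_loc hM hv hvp hQ hn
  have inst : Fintype H := Fintype.ofFinite H
  have inst2 : Fintype (Subgroup.centralizer (Q : Set G)) := Fintype.ofFinite _
  have hup : ∃ k : ℕ, orderOf (⟨v, hv⟩ : Subgroup.centralizer (R : Set G)) = p ^ k := by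
    obtain ⟨k, hk⟩ := hvp
    exact ⟨k, by rw [← Subgroup.orderOf_coe]; exact hk⟩
  have h3 := sum_wt_mul_conj_wt hM hup hH h1 (η := irrMap e.symm ξ) (η' := irrMap e.symm ξ')
    (irrMap_mem_blkMap.2 hξ) (irrMap_mem_blkMap.2 hξ')
  have h4 : ∀ ζ : IrrCharacter (Subgroup.centralizer (Q : Set G)),
      irrMap e (irrMap e.symm ζ) = ζ := fun ζ => irrMap_irrMap_symm e ζ
  simp only [h2 inst, h4, ← ei_def] at h3
  rw [h3, rip_ei_ei, rg_def, rg_def, pair_eq_sum_filter, pair_eq_sum_filter,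
    Nat.card_congr e.toEquiv]
  congr 1
  rw [Finset.sum_filter, Finset.sum_filter, ← Equiv.sum_comp e.toEquiv]
  refine Finset.sum_congr rfl fun y _ => ?_
  have h5 : orderOf (e.toEquiv y) = orderOf y := e.orderOf_eq y
  have h6 : ∀ ζ : IrrCharacter (Subgroup.centralizer (Q : Set G)),
      (irrMap e.symm ζ : H → ℂ) y = (ζ : _ → ℂ) (e.toEquiv y) := fun ζ => rfl
  rw [h5, h6, h6]

/-- The columns of different blocks of `C_G(Q)` are orthogonal. -/
theorem sum_col_ne_block (hM : IsPModular p M) (hv : v ∈ Subgroup.centralizer (R : Set G))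
    (hvp : ∃ k : ℕ, orderOf v = p ^ k) (hQ : Q = R ⊔ Subgroup.zpowers v)
    (hn : IsNormalSubpair p M R b Q b') [Fintype b]
    {ξ ξ' : IrrCharacter (Subgroup.centralizer (Q : Set G))} (hξ : ξ ∈ b') (hξ' : ξ' ∉ b') :
    ∑ χ : b, col p Q v (ei χ.1) (ei ξ) *
      conj (col p Q v (ei χ.1) (ei ξ')) = 0 := by
  classical
  have := isPrime_of_isPModular hM
  obtain ⟨H, e, hH, he, h1, h2⟩ := exists_loc hM hv hvp hQ hn
  have inst : Fintype H := Fintype.ofFinite H
  have hup : ∃ k : ℕ, orderOf (⟨v, hv⟩ : Subgroup.centralizer (R : Set G)) = p ^ k := by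
    obtain ⟨k, hk⟩ := hvp
    exact ⟨k, by rw [← Subgroup.orderOf_coe]; exact hk⟩
  have h3 := sum_wt_ne_block hM hup hH hn.1.2 h1.1 (η := irrMap e.symm ξ)
    (η' := irrMap e.symm ξ') (irrMap_mem_blkMap.2 hξ) (fun h => hξ' (irrMap_mem_blkMap.1 h))
  have h4 : ∀ ζ : IrrCharacter (Subgroup.centralizer (Q : Set G)),
      irrMap e (irrMap e.symm ζ) = ζ := fun ζ => irrMap_irrMap_symm e ζ
  simp only [h2 inst, h4, ← ei_def] at h3
  exact h3

end Pair

/-- Columns at elements which are not conjugate in `C_G(R)`. -/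
theorem sum_col_not_conj (hM : IsPModular p M) {R : Subgroup G}
    {b : Set (IrrCharacter (Subgroup.centralizer (R : Set G)))} [Fintype b]
    {v : G} {Q : Subgroup G} {b' : Set (IrrCharacter (Subgroup.centralizer (Q : Set G)))}
    (hv : v ∈ Subgroup.centralizer (R : Set G))
    (hvp : ∃ k : ℕ, orderOf v = p ^ k) (hQ : Q = R ⊔ Subgroup.zpowers v)
    (hn : IsNormalSubpair p M R b Q b')
    {v₂ : G} {Q₂ : Subgroup G} {b₂ : Set (IrrCharacter (Subgroup.centralizer (Q₂ : Set G)))}
    (hv₂ : v₂ ∈ Subgroup.centralizer (R : Set G))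
    (hvp₂ : ∃ k : ℕ, orderOf v₂ = p ^ k) (hQ₂ : Q₂ = R ⊔ Subgroup.zpowers v₂)
    (hn₂ : IsNormalSubpair p M R b Q₂ b₂)
    (hnc : ∀ h ∈ Subgroup.centralizer (R : Set G), h * v * h⁻¹ ≠ v₂)
    (ξ : IrrCharacter (Subgroup.centralizer (Q : Set G)))
    (ξ' : IrrCharacter (Subgroup.centralizer (Q₂ : Set G))) :
    ∑ χ : b, col p Q v (ei χ.1) (ei ξ) *
      conj (col p Q₂ v₂ (ei χ.1) (ei ξ')) = 0 := by
  classical
  have := isPrime_of_isPModular hM
  obtain ⟨H, e, hH, he, h1, h2⟩ := exists_loc hM hv hvp hQ hn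
  obtain ⟨H₂, e₂, hH₂, he₂, h1₂, h2₂⟩ := exists_loc hM hv₂ hvp₂ hQ₂ hn₂
  have inst : Fintype H := Fintype.ofFinite H
  have inst₂ : Fintype H₂ := Fintype.ofFinite H₂
  have hup : ∃ k : ℕ, orderOf (⟨v, hv⟩ : Subgroup.centralizer (R : Set G)) = p ^ k := by
    obtain ⟨k, hk⟩ := hvp
    exact ⟨k, by rw [← Subgroup.orderOf_coe]; exact hk⟩
  have hup₂ : ∃ k : ℕ, orderOf (⟨v₂, hv₂⟩ : Subgroup.centralizer (R : Set G)) = p ^ k := by
    obtain ⟨k, hk⟩ := hvp₂
    exact ⟨k, by rw [← Subgroup.orderOf_coe]; exact hk⟩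
  have hnot : ¬ IsConj (⟨v, hv⟩ : Subgroup.centralizer (R : Set G))
      (⟨v₂, hv₂⟩ : Subgroup.centralizer (R : Set G)) := by
    intro h
    obtain ⟨c, hc⟩ := isConj_iff.1 h
    exact hnc c c.2 (congrArg Subtype.val hc)
  have h3 := sum_wt_not_conj hM hup hup₂ hnot hH hH₂ hn.1.2
    (irrMap e.symm ξ : H → ℂ) (irrMap e₂.symm ξ' : H₂ → ℂ)
  have h4 : irrMap e (irrMap e.symm ξ) = ξ := irrMap_irrMap_symm e ξ
  have h4₂ : irrMap e₂ (irrMap e₂.symm ξ') = ξ' := irrMap_irrMap_symm e₂ ξ'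
  have h5 : ∀ χ : Subgroup.centralizer (R : Set G) → ℂ,
      wt p (⟨v, hv⟩ : Subgroup.centralizer (R : Set G)) χ (irrMap e.symm ξ : H → ℂ) =
        col p Q v (ex χ) (ei ξ) := by
    intro χ
    rw [h2 inst, h4]
  have h5₂ : ∀ χ : Subgroup.centralizer (R : Set G) → ℂ,
      wt p (⟨v₂, hv₂⟩ : Subgroup.centralizer (R : Set G)) χ (irrMap e₂.symm ξ' : H₂ → ℂ) =
        col p Q₂ v₂ (ex χ) (ei ξ') := by
    intro χ
    rw [h2₂ inst₂, h4₂]
  simp only [h5, h5₂, ← ei_def] at h3
  exact h3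

end Cfsg.Agent.H639
end

-- part: H639/Fus
section
/-!
# Fusion of Brauer pairs for a maximal pair with abelian group

`a = (P, c)` a maximal Brauer pair of `B` with `P` abelian, `r = (R, f) ≤ a`.

* `up R`: from pairs of `C_G(R)` to pairs of `G`;
* `isMaximalBrauerPair_loc`: `(P, c)` is a maximal pair of the block `f` of `C_G(R)`;
* `exists_conj_of_le`: `r ≤ a`, `r ≤ a ^ x` ⇒ `a ^ x` and `a` are conjugate in `C_G(R)`;
* `exists_conj_into`: a pair normally above `r` is conjugate in `C_G(R)` to a pair below `a`.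
-/

set_option autoImplicit false
set_option linter.unusedSectionVars false

open Cfsg

namespace Cfsg.Agent.H639

open Cfsg.Agent.H649 Cfsg.Agent.H651
open Cfsg.Agent.H644 (isNormalSubpair_of_subpairLE subpairLE_unique subpairLE_of_isNormalSubpair
  isBrauerPairOf_iff_of_isNormalSubpair isBrauerPairOf_iff_of_subpairLE
  exists_conj_subpairLE isDefectGroup_of_isMaximalBrauerPair)

universe u

variable {G : Type u} [Group G]

/-- From Brauer pairs of `C_G(R)` to Brauer pairs of `G`. -/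
def up (R : Subgroup G) (a : BrauerPairIdx (Subgroup.centralizer (R : Set G))) :
    BrauerPairIdx G := ⟨locSub R a.1, locBlk R a.1 a.2⟩

theorem up_fst (R : Subgroup G) (a : BrauerPairIdx (Subgroup.centralizer (R : Set G))) :
    (up R a).1 = locSub R a.1 := rfl

theorem tst_up (R : Subgroup G) (a : BrauerPairIdx (Subgroup.centralizer (R : Set G)))
    (φ : G → ℂ) : Tst (up R a) φ ↔ Tst a (fun k => φ (k : G)) := by
  constructor
  · rintro ⟨_, ⟨ξ, hξ, rfl⟩, h⟩
    refine ⟨ξ, hξ, fun k => ?_⟩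
    have h1 := h (locIso R a.1 k)
    rw [irrMap_apply'] at h1
    exact h1
  · rintro ⟨ξ, hξ, h⟩
    exact ⟨irrMap (locIso R a.1) ξ, ⟨ξ, hξ, rfl⟩, fun k => h ((locIso R a.1).symm k)⟩

theorem locSub_map_conj (R : Subgroup G) (S : Subgroup (Subgroup.centralizer (R : Set G)))
    (x : Subgroup.centralizer (R : Set G)) :
    locSub R (S.map (MulAut.conj x).toMonoidHom) =
      (locSub R S).map (MulAut.conj (x : G)).toMonoidHom := by
  rw [locSub, locSub, Subgroup.map_sup]
  have h1 : R.map (MulAut.conj (x : G)).toMonoidHom = R :=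
    (mem_normalizer_iff_map_conj R x).1 (Subgroup.centralizer_le_normalizer _ x.2)
  rw [h1, Subgroup.map_map, Subgroup.map_map]
  rfl

theorem up_conjIdx (R : Subgroup G) (x : Subgroup.centralizer (R : Set G))
    (a : BrauerPairIdx (Subgroup.centralizer (R : Set G))) :
    up R (conjIdx x a) = conjIdx (x : G) (up R a) := by
  refine idx_ext (locSub_map_conj R a.1 x) fun φ => ?_
  rw [tst_up, conjIdx, idxMap_test, conjIdx, idxMap_test, tst_up]
  rfl

theorem locSub_subgroupOf {R Q : Subgroup G} (hRQ : R ≤ Q)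
    (hQ : Q ≤ Subgroup.centralizer (R : Set G)) :
    locSub R (Q.subgroupOf (Subgroup.centralizer (R : Set G))) = Q := by
  rw [locSub, Subgroup.map_subgroupOf_eq_of_le hQ]
  exact sup_eq_right.2 hRQ

theorem exists_up_aux (R : Subgroup G) (S : Subgroup (Subgroup.centralizer (R : Set G)))
    (Q : Subgroup G) (hQ : Q = locSub R S)
    (f : Set (IrrCharacter (Subgroup.centralizer (Q : Set G)))) :
    ∃ h : Set (IrrCharacter (Subgroup.centralizer (S : Set (Subgroup.centralizer
      (R : Set G))))), up R ⟨S, h⟩ = ⟨Q, f⟩ := by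
  subst hQ
  refine ⟨blkMap (locIso R S).symm f, ?_⟩
  rw [up, locBlk]
  simp only
  rw [blkMap_blkMap_symm]

theorem exists_up {R : Subgroup G} {q : BrauerPairIdx G} (hRQ : R ≤ q.1)
    (hQ : q.1 ≤ Subgroup.centralizer (R : Set G)) :
    ∃ a : BrauerPairIdx (Subgroup.centralizer (R : Set G)), up R a = q ∧
      a.1 = q.1.subgroupOf (Subgroup.centralizer (R : Set G)) := by
  obtain ⟨h, hh⟩ := exists_up_aux R (q.1.subgroupOf (Subgroup.centralizer (R : Set G))) q.1
    (locSub_subgroupOf hRQ hQ).symm q.2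
  exact ⟨⟨_, h⟩, hh, rfl⟩

variable [Finite G] {p : ℕ} [Fact p.Prime] {M : Ideal AlgInt} [M.IsPrime]

theorem card_conjIdx (x : G) (a : BrauerPairIdx G) : Nat.card (conjIdx x a).1 = Nat.card a.1 := by
  rw [conjIdx_fst]
  exact Nat.card_congr (a.1.equivMapOfInjective _ (MulAut.conj x).injective).toEquiv.symm

theorem eq_of_leIdx_of_card (hM : IsPModular p M) {a b : BrauerPairIdx G}
    (hb : IsBrauerPair p M b.1 b.2)
    (h : LEIdx p M a b) (hc : Nat.card b.1 ≤ Nat.card a.1) : a = b := by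
  obtain ⟨A, f⟩ := a
  obtain ⟨C, g⟩ := b
  have h1 : A = C := Subgroup.eq_of_le_of_card_ge (LEIdx.le h) hc
  subst h1
  rw [subpairLE_unique hM hb A f g h Relation.ReflTransGen.refl]

/-- `(P, c)` is a maximal pair of the block `f` of `C_G(R)`, for `(R, f) ≤ (P, c)`, `P` abelian. -/
theorem isMaximalBrauerPair_loc (hM : IsPModular p M) {B : Set (IrrCharacter G)}
    {a : BrauerPairIdx G} (hmax : IsMaximalBrauerPair p M B a.1 a.2)
    {R : Subgroup G} {f : Set (IrrCharacter (Subgroup.centralizer (R : Set G)))}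
    {q : BrauerPairIdx G} (hcard : Nat.card q.1 = Nat.card a.1)
    (hle : IsNormalSubpair p M R f q.1 q.2) (hB : IsBrauerPairOf p M B R f)
    {a' : BrauerPairIdx (Subgroup.centralizer (R : Set G))} (hup : up R a' = q)
    (ha' : a'.1 = q.1.subgroupOf (Subgroup.centralizer (R : Set G)))
    (hcen : q.1 ≤ Subgroup.centralizer (R : Set G)) :
    IsMaximalBrauerPair p M f a'.1 a'.2 := by
  have hle' : IsNormalSubpair p M R f (up R a').1 (up R a').2 := by rw [hup]; exact hle
  have hp : IsPGroup p a'.1 := by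
    rw [ha']
    exact (hle.2.1.1).comap_of_injective _ (Subgroup.subtype_injective _)
  refine ⟨(isNormalSubpair_locBlk_iff hle.1.1 hle.1.2 hp).1 hle', fun S h hS hSle => ?_⟩
  have h1 : IsNormalSubpair p M R f (locSub R S) (locBlk R S h) :=
    (isNormalSubpair_locBlk_iff hle.1.1 hle.1.2 hS.1.1).2 hS
  have h2 : IsBrauerPairOf p M B (locSub R S) (locBlk R S h) :=
    (isBrauerPairOf_iff_of_isNormalSubpair hM h1).2 hB
  obtain ⟨x, hx⟩ := exists_conj_subpairLE hM hmax h2
  have h3 : Nat.card (locSub R S) ≤ Nat.card a.1 := by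
    have h4 := Subgroup.card_le_of_le (SubpairLE.le hx)
    rwa [← Nat.card_congr ((locSub R S).equivMapOfInjective (MulAut.conj x).toMonoidHom
      (MulAut.conj x).injective).toEquiv] at h4
  have h5 : Nat.card S ≤ Nat.card (locSub R S) := by
    have h6 : Nat.card (S.map (Subgroup.centralizer (R : Set G)).subtype) ≤
        Nat.card (locSub R S) := Subgroup.card_le_of_le le_sup_right
    rwa [← Nat.card_congr (S.equivMapOfInjective _
      (Subgroup.subtype_injective _)).toEquiv] at h6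
  have h7 : Nat.card a'.1 = Nat.card q.1 := by
    rw [ha']
    exact Nat.card_congr (Subgroup.subgroupOfEquivOfLe hcen).toEquiv
  exact (Subgroup.eq_of_le_of_card_ge (SubpairLE.le hSle) (by omega)).symm

variable {B : Set (IrrCharacter G)} {a : BrauerPairIdx G}

theorem le_centralizer_of_comm {P R : Subgroup G} (hab : ∀ x ∈ P, ∀ y ∈ P, x * y = y * x)
    (hR : R ≤ P) : P ≤ Subgroup.centralizer (R : Set G) := by
  intro x hx
  rw [Subgroup.mem_centralizer_iff]
  intro y hy
  exact hab y (hR hy) x hx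

theorem isNormalSubpair_of_leIdx (hM : IsPModular p M) {r q : BrauerPairIdx G}
    (hq : IsBrauerPair p M q.1 q.2) (hab : ∀ x ∈ q.1, ∀ y ∈ q.1, x * y = y * x)
    (h : LEIdx p M r q) : IsNormalSubpair p M r.1 r.2 q.1 q.2 :=
  isNormalSubpair_of_subpairLE hM hq h
    ((le_centralizer_of_comm hab (LEIdx.le h)).trans (Subgroup.centralizer_le_normalizer _))

/-- Fusion control, local form. -/
theorem exists_conj_of_le (hM : IsPModular p M) (hmax : IsMaximalBrauerPair p M B a.1 a.2)
    (hab : ∀ x ∈ a.1, ∀ y ∈ a.1, x * y = y * x) {r : BrauerPairIdx G}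
    (h1 : LEIdx p M r a) {x : G} (h2 : LEIdx p M r (conjIdx x a)) :
    ∃ h ∈ Subgroup.centralizer (r.1 : Set G), conjIdx h (conjIdx x a) = a := by
  obtain ⟨R, f⟩ := r
  set q := conjIdx x a with hq
  have hBr : IsBrauerPairOf p M B R f := (isBrauerPairOf_iff_of_subpairLE hM h1).1 hmax.1
  have hqB : IsBrauerPairOf p M B q.1 q.2 := by
    rw [hq]
    obtain ⟨P, c⟩ := a
    rw [conjIdx_mk]
    exact (isBrauerPairOf_conj_iff B P x c).2 hmax.1
  have habq : ∀ y ∈ q.1, ∀ z ∈ q.1, y * z = z * y := by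
    rintro _ ⟨y, hy, rfl⟩ _ ⟨z, hz, rfl⟩
    rw [← map_mul, ← map_mul, hab y hy z hz]
  have hcq : Nat.card q.1 = Nat.card a.1 := card_conjIdx x a
  have hn1 := isNormalSubpair_of_leIdx hM hmax.1.1 hab h1
  have hn2 := isNormalSubpair_of_leIdx hM hqB.1 habq h2
  have hc1 : a.1 ≤ Subgroup.centralizer (R : Set G) := le_centralizer_of_comm hab (LEIdx.le h1)
  have hc2 : q.1 ≤ Subgroup.centralizer (R : Set G) := le_centralizer_of_comm habq (LEIdx.le h2)
  obtain ⟨a', hup, ha'⟩ := exists_up (LEIdx.le h1) hc1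
  obtain ⟨q', hupq, hq'⟩ := exists_up (LEIdx.le h2) hc2
  have hm1 := isMaximalBrauerPair_loc hM hmax rfl hn1 hBr hup ha' hc1
  have hm2 := isMaximalBrauerPair_loc hM hmax hcq hn2 hBr hupq hq' hc2
  obtain ⟨h, hh⟩ := exists_conj_subpairLE hM hm1 hm2.1
  refine ⟨h, h.2, ?_⟩
  have h3 : LEIdx p M (conjIdx h q') a' := by
    have h4 : conjIdx h q' = ⟨q'.1.map (MulAut.conj h).toMonoidHom, conjBlock q'.1 h q'.2⟩ :=
      conjIdx_mk h q'.1 q'.2
    rw [h4]
    exact hh
  have hcard : Nat.card a'.1 ≤ Nat.card (conjIdx h q').1 := by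
    rw [card_conjIdx, ha', hq', Nat.card_congr (Subgroup.subgroupOfEquivOfLe hc1).toEquiv,
      Nat.card_congr (Subgroup.subgroupOfEquivOfLe hc2).toEquiv, hcq]
  have h5 := eq_of_leIdx_of_card hM hm1.1.1 h3 hcard
  rw [← hup, ← h5, up_conjIdx, hupq]

/-- A pair normally above `r ≤ a` is conjugate in `C_G(R)` to a pair below `a`. -/
theorem exists_conj_into (hM : IsPModular p M) (hmax : IsMaximalBrauerPair p M B a.1 a.2)
    (hab : ∀ x ∈ a.1, ∀ y ∈ a.1, x * y = y * x) {r s : BrauerPairIdx G}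
    (h1 : LEIdx p M r a) (h2 : LEIdx p M r s) :
    ∃ h ∈ Subgroup.centralizer (r.1 : Set G), LEIdx p M (conjIdx h s) a := by
  have hBr : IsBrauerPairOf p M B r.1 r.2 := (isBrauerPairOf_iff_of_subpairLE hM h1).1 hmax.1
  have hBs : IsBrauerPairOf p M B s.1 s.2 := (isBrauerPairOf_iff_of_subpairLE hM h2).2 hBr
  obtain ⟨g, hg⟩ := exists_conj_subpairLE hM hmax hBs
  have hg' : LEIdx p M (conjIdx g s) a := by
    have h4 : conjIdx g s = ⟨s.1.map (MulAut.conj g).toMonoidHom, conjBlock s.1 g s.2⟩ :=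
      conjIdx_mk g s.1 s.2
    rw [h4]
    exact hg
  have h3 : LEIdx p M s (conjIdx g⁻¹ a) := by
    rw [← leIdx_conjIdx_iff g, conjIdx_conjIdx_inv]
    exact hg'
  obtain ⟨h, hh, h4⟩ := exists_conj_of_le hM hmax hab h1 (h2.trans h3)
  refine ⟨h, hh, ?_⟩
  rw [← h4, leIdx_conjIdx_iff]
  exact h3

end Cfsg.Agent.H639
end
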