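import Mathlib
import Cfsg.Agent.H639.PI2
import Cfsg.Agent.H639.Conn
import Cfsg.Agent.H648.SubStab
import Cfsg.Agent.H662.IrrTransport
import Cfsg.Agent.H649.DefectPair
set_option linter.all false

/-!
# Blocks of subgroups containing `N_G(P)`
-/

set_option autoImplicit false
set_option linter.unusedSectionVars false

open Cfsg
open scoped ComplexConjugate

namespace Cfsg.Agent.H639

open Cfsg.Agent.Blocks.Local Cfsg.Agent.Characters
open Cfsg.Agent.H649 Cfsg.Agent.H651
open Cfsg.Agent.H648 (upIdx upIdx_test conjIdx_upIdx centralizer_conj_le conj_map_subtype)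

universe u

variable {G : Type u} [Group G]

theorem upIdx_injective {T : Subgroup G} {a b : BrauerPairIdx T}
    (ha : Subgroup.centralizer ((a.1.map T.subtype : Subgroup G) : Set G) ≤ T)
    (hb : Subgroup.centralizer ((b.1.map T.subtype : Subgroup G) : Set G) ≤ T)
    (h : upIdx T a ha = upIdx T b hb) : a = b := by
  classical
  refine idx_ext ?_ fun φ => ?_
  · have h1 : a.1.map T.subtype = b.1.map T.subtype := congrArg (fun c => c.1) h
    exact Subgroup.map_injective T.subtype_injective h1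
  · let ψ : G → ℂ := fun g => if hg : g ∈ T then φ ⟨g, hg⟩ else 0
    have hψ : (fun t : T => ψ (t : G)) = φ := by
      funext t
      exact dif_pos t.2
    have h1 := upIdx_test a ha ψ
    have h2 := upIdx_test b hb ψ
    rw [hψ] at h1 h2
    rw [← h1, ← h2, h]

theorem conjIdx_up_iff {T : Subgroup G} {a : BrauerPairIdx T}
    (h : Subgroup.centralizer ((a.1.map T.subtype : Subgroup G) : Set G) ≤ T) (x : T) :
    conjIdx (x : G) (upIdx T a h) = upIdx T a h ↔ conjIdx x a = a := by
  rw [conjIdx_upIdx]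
  constructor
  · intro h1
    exact upIdx_injective _ _ h1
  · intro h1
    congr 1

/-- The isomorphism of `P` onto its image. -/
noncomputable def thetaUp (T : Subgroup G) (a : BrauerPairIdx T)
    (h : Subgroup.centralizer ((a.1.map T.subtype : Subgroup G) : Set G) ≤ T) :
    a.1 ≃* (upIdx T a h).1 :=
  Subgroup.equivMapOfInjective a.1 T.subtype T.subtype_injective

theorem coe_thetaUp (T : Subgroup G) (a : BrauerPairIdx T)
    (h : Subgroup.centralizer ((a.1.map T.subtype : Subgroup G) : Set G) ≤ T) (x : a.1) :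
    ((thetaUp T a h x : (upIdx T a h).1) : G) = ((x : T) : G) := rfl

theorem inQ_up [Fintype G] {T : Subgroup G} [Fintype T] {a : BrauerPairIdx T}
    (h : Subgroup.centralizer ((a.1.map T.subtype : Subgroup G) : Set G) ≤ T)
    (hN : Subgroup.normalizer ((a.1.map T.subtype : Subgroup G) : Set G) ≤ T) (τ : MulAut a.1) :
    MulAut.congr (thetaUp T a h) τ ∈ inQ (upIdx T a h) ↔ τ ∈ inQ a := by
  have hconj : ∀ (x : T) (hx : conjIdx (x : G) (upIdx T a h) = upIdx T a h)
      (hx' : conjIdx x a = a),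
      autHom (upIdx T a h) ⟨(x : G), hx⟩ = MulAut.congr (thetaUp T a h) (autHom a ⟨x, hx'⟩) := by
    intro x hx hx'
    refine MulEquiv.ext fun v => Subtype.ext ?_
    obtain ⟨w, rfl⟩ := (thetaUp T a h).surjective v
    rw [autHom_apply]
    change (x : G) * ((thetaUp T a h w : (upIdx T a h).1) : G) * (x : G)⁻¹ =
      ((thetaUp T a h (autHom a ⟨x, hx'⟩ ((thetaUp T a h).symm (thetaUp T a h w))) :
        (upIdx T a h).1) : G)
    rw [MulEquiv.symm_apply_apply, coe_thetaUp, coe_thetaUp, autHom_apply]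
    rfl
  constructor
  · rintro ⟨⟨t, ht⟩, h1⟩
    have ht1 : t ∈ Subgroup.normalizer ((a.1.map T.subtype : Subgroup G) : Set G) := by
      rw [mem_normalizer_iff_map_conj]
      exact congrArg (fun c => c.1) (show conjIdx t (upIdx T a h) = upIdx T a h from ht)
    have htT : t ∈ T := hN ht1
    have ht' : conjIdx (⟨t, htT⟩ : T) a = a := (conjIdx_up_iff h ⟨t, htT⟩).1 ht
    refine ⟨⟨⟨t, htT⟩, ht'⟩, ?_⟩
    apply (MulAut.congr (thetaUp T a h)).injective
    rw [← hconj ⟨t, htT⟩ ht ht']
    exact h1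
  · rintro ⟨⟨t, ht⟩, h1⟩
    have ht' : conjIdx (t : G) (upIdx T a h) = upIdx T a h := (conjIdx_up_iff h t).2 ht
    refine ⟨⟨(t : G), ht'⟩, ?_⟩
    rw [hconj t ht' ht, h1]

theorem trB_eq_blkMap {K K' : Type*} [Group K] [Group K'] (e : K ≃* K')
    (b : Set (IrrCharacter K)) : Cfsg.Agent.H662.trB e b = blkMap e b := by
  ext ξ
  rw [mem_blkMap]
  rfl

variable [Fintype G] {p : ℕ} [Fact p.Prime] {M : Ideal AlgInt} [M.IsPrime]
  {B : Set (IrrCharacter G)}

/-- Induction from `C_T(P)` via `T`. -/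
theorem isInducedBlock_up {T : Subgroup G} {a : BrauerPairIdx T}
    (h : Subgroup.centralizer ((a.1.map T.subtype : Subgroup G) : Set G) ≤ T)
    {b : Set (IrrCharacter T)}
    (h1 : IsInducedBlock M (Subgroup.centralizer (a.1 : Set T)) a.2 b)
    (h2 : IsInducedBlock M T b B) :
    IsInducedBlock M (Subgroup.centralizer ((upIdx T a h).1 : Set G)) (upIdx T a h).2 B := by
  have h3 := Cfsg.Agent.H662.induced_trans (upIso T a.1 h) (fun x => rfl) h1 h2
  rw [trB_eq_blkMap] at h3
  exact h3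

/-- Perfect isometries with blocks of subgroups containing `N_G(P)`. -/
theorem exists_isPerfectIsometry_sub (hM : IsPModular p M) {T : Subgroup G} [Fintype T]
    {P' : Subgroup T} (hN : Subgroup.normalizer ((P'.map T.subtype : Subgroup G) : Set G) ≤ T)
    {b : Set (IrrCharacter T)} (hbD : IsDefectGroup p M b P')
    (hb : IsInducedBlock M T b B)
    (hFull : ∀ f : Set (IrrCharacter
        (Subgroup.centralizer ((P'.map T.subtype : Subgroup G) : Set G))),
      IsInducedBlock M (Subgroup.centralizer ((P'.map T.subtype : Subgroup G) : Set G)) f B →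
      ∃ (c : ∀ R : Subgroup G, Set (IrrCharacter (Subgroup.centralizer (R : Set G))))
        (ζ : Subgroup G → G → ℂ), Full p M B ⟨P'.map T.subtype, f⟩ c ζ ∧
        Nat.card B = Nat.card (inQ (⟨P'.map T.subtype, f⟩ : BrauerPairIdx G)) +
          Nat.card (Orb (⟨P'.map T.subtype, f⟩ : BrauerPairIdx G)))
    (hFull' : ∀ f : Set (IrrCharacter (Subgroup.centralizer (P' : Set T))),
      IsInducedBlock M (Subgroup.centralizer (P' : Set T)) f b →
      ∃ (c : ∀ R : Subgroup T, Set (IrrCharacter (Subgroup.centralizer (R : Set T))))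
        (ζ : Subgroup T → T → ℂ), Full p M b ⟨P', f⟩ c ζ ∧
        Nat.card b = Nat.card (inQ (⟨P', f⟩ : BrauerPairIdx T)) +
          Nat.card (Orb (⟨P', f⟩ : BrauerPairIdx T))) :
    ∃ (I : IrrCharacter T → IrrCharacter G) (ε : IrrCharacter T → ℤ),
      IsPerfectIsometry p M b B I ε := by
  obtain ⟨f', hf'⟩ := exists_pair_of_isDefectGroup hM hb.1 hbD
  have hpair := ((Cfsg.Agent.H644.isBrauerPairOf_iff hM).1 hf').1
  have hf'' : IsInducedBlock M (Subgroup.centralizer (P' : Set T)) f' b :=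
    (isBrauerPairOf_iff_isInducedBlock hM hb.1 hpair.1 hpair.2).1 hf'
  obtain ⟨c', ζ', hF', hk'⟩ := hFull' f' hf''
  have h : Subgroup.centralizer ((P'.map T.subtype : Subgroup G) : Set G) ≤ T :=
    (Subgroup.centralizer_le_normalizer _).trans hN
  have h1 := isInducedBlock_up (M := M) (a := (⟨P', f'⟩ : BrauerPairIdx T)) h hf'' hb
  obtain ⟨c, ζ, hF, hk⟩ := hFull (upIdx T (⟨P', f'⟩ : BrauerPairIdx T) h).2 h1
  have hF2 : Full p M B (upIdx T (⟨P', f'⟩ : BrauerPairIdx T) h) c ζ := hF
  have hk2 : Nat.card B = Nat.card (inQ (upIdx T (⟨P', f'⟩ : BrauerPairIdx T) h)) +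
          Nat.card (Orb (upIdx T (⟨P', f'⟩ : BrauerPairIdx T) h)) := hk
  clear hk hF h1 hFull hFull'
  obtain ⟨I, ε, hI⟩ := exists_isPerfectIsometry hF2 hF'
    (thetaUp T (⟨P', f'⟩ : BrauerPairIdx T) h) (inQ_up (a := (⟨P', f'⟩ : BrauerPairIdx T)) h hN)
    hk2 hk'
  exact ⟨I, ε, hI.1⟩

end Cfsg.Agent.H639
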