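import Mathlib
import Cfsg.Agent.H772.MetaTwoA
import Cfsg.Agent.S4528
import Cfsg.Agent.S4529
import Cfsg.Agent.S4530
set_option linter.all false

/-!
# Blocks with defect groups of order `16` and centre of order `2`

* `index_commutator_le_four`: a group of order `16` with centre of order `2` has commutator
  subgroup of index at most `4`, so it is dihedral, semidihedral or quaternion;
* `rank_le_three_of_center_two`: blocks with such a defect group have rank at most `3`.
-/

set_option autoImplicit false

open Cfsg Subgroup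
open scoped commutatorElement

namespace Cfsg.Agent.H639.MaxClass

/-- A normal subgroup of order `2` is central. -/
theorem le_center_of_card_two {S : Type*} [Group S] (N : Subgroup S) [N.Normal]
    (h : Nat.card N = 2) : N ≤ center S := by
  intro x hx
  rw [mem_center_iff]
  intro g
  by_cases hx1 : x = 1
  · rw [hx1, mul_one, one_mul]
  · have h1 : g * x * g⁻¹ ∈ N := Subgroup.Normal.conj_mem inferInstance x hx g
    have h2 : g * x * g⁻¹ ≠ 1 := by
      intro h3
      apply hx1
      rwa [conj_eq_one_iff] at h3
    have h3 : (⟨g * x * g⁻¹, h1⟩ : N) = ⟨x, hx⟩ := by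
      have h4 := (Nat.card_eq_two_iff' (1 : N)).1 h
      obtain ⟨y, -, hy⟩ := h4
      rw [hy ⟨g * x * g⁻¹, h1⟩ (fun h5 => h2 (congrArg Subtype.val h5)),
        hy ⟨x, hx⟩ (fun h5 => hx1 (congrArg Subtype.val h5))]
    have h4 : g * x * g⁻¹ = x := congrArg Subtype.val h3
    calc g * x = g * x * g⁻¹ * g := by group
      _ = x * g := by rw [h4]

theorem index_commutator_le_four {S : Type*} [Group S] [Finite S] (h16 : Nat.card S = 16)
    (hZ : Nat.card (center S) = 2) : (commutator S).index ≤ 4 := by
  by_contra hcon
  push Not at hcon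
  have hmul := (commutator S).card_mul_index
  rw [h16] at hmul
  have hpos : 0 < Nat.card (commutator S) := Nat.card_pos
  have hle : Nat.card (commutator S) ≤ 3 := by
    by_contra h
    push Not at h
    have := Nat.mul_le_mul h hcon.le
    nlinarith
  have hZtop : center S ≠ ⊤ := by
    intro h
    rw [h, Subgroup.card_top, h16] at hZ
    omega
  -- `|S'| = 2`
  have h2 : Nat.card (commutator S) = 2 := by
    have h3 : Nat.card (commutator S) ∣ 16 := Dvd.intro _ hmul
    have h1 : Nat.card (commutator S) ≠ 1 := by
      intro h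
      apply hZtop
      have h4 : commutator S = ⊥ := (Subgroup.card_eq_one).1 h
      rw [commutator_eq_bot_iff_center_eq_top] at h4
      exact h4
    interval_cases Nat.card (commutator S) <;> omega
  have hcen : commutator S ≤ center S := le_center_of_card_two _ h2
  -- two noncommuting elements
  obtain ⟨x, y, hxy⟩ : ∃ x y : S, x * y ≠ y * x := by
    by_contra h
    push Not at h
    apply hZtop
    rw [eq_top_iff]
    intro g _
    rw [mem_center_iff]
    intro z
    exact h z g
  -- the commutator maps
  have hcm : ∀ a b : S, ⁅a, b⁆ ∈ commutator S := fun a b =>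
    Subgroup.commutator_mem_commutator (mem_top a) (mem_top b)
  have hhom : ∀ a b c : S, ⁅a * b, c⁆ = ⁅a, c⁆ * ⁅b, c⁆ := by
    intro a b c
    have h3 := mem_center_iff.1 (hcen (hcm b c)) a
    calc ⁅a * b, c⁆ = a * ⁅b, c⁆ * a⁻¹ * ⁅a, c⁆ := by simp only [commutatorElement_def]; group
      _ = ⁅b, c⁆ * a * a⁻¹ * ⁅a, c⁆ := by rw [h3]
      _ = ⁅b, c⁆ * ⁅a, c⁆ := by group
      _ = ⁅a, c⁆ * ⁅b, c⁆ := (mem_center_iff.1 (hcen (hcm b c)) _).symm
  obtain ⟨z, hz1, hz⟩ := (Nat.card_eq_two_iff' (1 : commutator S)).1 h2
  have hval : ∀ a b : S, ⁅a, b⁆ = 1 ∨ ⁅a, b⁆ = (z : S) := by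
    intro a b
    by_cases h : (⟨⁅a, b⁆, hcm a b⟩ : commutator S) = 1
    · left; exact congrArg Subtype.val h
    · right; exact congrArg Subtype.val (hz _ h)
  have hzz : (z : S) * z = 1 := by
    have h3 : (z * z : commutator S) = 1 := by
      by_contra h4
      have h5 := hz _ h4
      exact hz1 (mul_eq_left.1 h5)
    exact congrArg Subtype.val h3
  have hxyz : ⁅x, y⁆ = (z : S) := by
    rcases hval x y with h | h
    · exact absurd (commutatorElement_eq_one_iff_mul_comm.1 h) hxy
    · exact h
  have hyxz : ⁅y, x⁆ = (z : S) := by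
    rcases hval y x with h | h
    · exact absurd (commutatorElement_eq_one_iff_mul_comm.1 h).symm hxy
    · exact h
  -- the common centralizer
  set φ : S →* (commutator S) × (commutator S) :=
    { toFun := fun g => (⟨⁅g, x⁆, hcm g x⟩, ⟨⁅g, y⁆, hcm g y⟩)
      map_one' := by ext <;> simp
      map_mul' := fun a b => by
        ext
        · exact hhom a b x
        · exact hhom a b y } with hφ
  set K := φ.ker with hK
  have hKmem : ∀ g, g ∈ K ↔ g * x = x * g ∧ g * y = y * g := by
    intro g
    rw [hK, MonoidHom.mem_ker, Prod.ext_iff]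
    constructor
    · rintro ⟨h3, h4⟩
      exact ⟨commutatorElement_eq_one_iff_mul_comm.1 (congrArg Subtype.val h3),
        commutatorElement_eq_one_iff_mul_comm.1 (congrArg Subtype.val h4)⟩
    · rintro ⟨h3, h4⟩
      exact ⟨Subtype.ext (commutatorElement_eq_one_iff_mul_comm.2 h3),
        Subtype.ext (commutatorElement_eq_one_iff_mul_comm.2 h4)⟩
  have hKidx : K.index ≤ 4 := by
    rw [hK, Subgroup.index_ker]
    have h3 : Nat.card φ.range ≤ Nat.card ((commutator S) × (commutator S)) :=
      Subgroup.card_le_card_group φ.range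
    rwa [Nat.card_prod, h2] at h3
  have hK4 : 4 ≤ Nat.card K := by
    have h3 := K.card_mul_index
    rw [h16] at h3
    by_contra h4
    push Not at h4
    have : Nat.card K * K.index ≤ 3 * 4 := Nat.mul_le_mul (by omega) hKidx
    omega
  -- every element is `k r` with `k ∈ K` and `r ∈ {1, x, y, x y}`
  have hrep : ∀ g : S, g ∈ K ∨ g * x ∈ K ∨ g * y ∈ K ∨ g * (x * y) ∈ K := by
    intro g
    have h3 : ∀ h : S, h ∈ K ↔ ⁅h, x⁆ = 1 ∧ ⁅h, y⁆ = 1 := by
      intro h
      rw [hKmem, commutatorElement_eq_one_iff_mul_comm, commutatorElement_eq_one_iff_mul_comm]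
    rw [h3, h3, h3, h3]
    simp only [hhom, commutatorElement_self, one_mul, mul_one, hxyz, hyxz]
    rcases hval g x with h4 | h4 <;> rcases hval g y with h5 | h5 <;> rw [h4, h5] <;>
      simp [hzz]
  -- `K` is central
  have hKab : ∀ a ∈ K, ∀ b ∈ K, a * b = b * a := by
    have hcardK : Nat.card K ∣ 16 := h16 ▸ K.card_subgroup_dvd_card
    have hxK : x ∉ K := fun h => hxy ((hKmem x).1 h).2
    have hne : K ≠ ⊤ := fun h => hxK (by rw [h]; exact mem_top x)
    -- index exactly four
    have hyK : y ∉ K := fun h => hxy ((hKmem y).1 h).1.symm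
    have hi2 : K.index ≠ 2 := by
      intro h
      have h3 : x * y ∈ K := (Subgroup.mul_mem_iff_of_index_two h).2 (by simp [hxK, hyK])
      have h4 := ((hKmem _).1 h3).1
      apply hxy
      have h5 : x * (y * x) = x * (x * y) := by rw [← mul_assoc]; exact h4
      exact (mul_left_cancel h5).symm
    have hK4' : Nat.card K = 4 := by
      have h3 := K.card_mul_index
      rw [h16] at h3
      have h4 : K.index ≠ 1 := fun h => hne (Subgroup.index_eq_one.1 h)
      have h5 : 0 < K.index := Nat.pos_of_ne_zero Subgroup.index_ne_zero_of_finite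
      interval_cases K.index <;> omega
    have h3 : Fact (Nat.Prime 2) := ⟨Nat.prime_two⟩
    have h4 : IsMulCommutative K :=
      IsPGroup.isMulCommutative_of_card_eq_prime_sq (p := 2) (by rw [hK4']; norm_num)
    intro a ha b hb
    exact congrArg Subtype.val (h4.is_comm.comm (⟨a, ha⟩ : K) ⟨b, hb⟩)
  have hKZ : K ≤ center S := by
    intro w hw
    rw [mem_center_iff]
    intro g
    obtain ⟨hwx, hwy⟩ := (hKmem w).1 hw
    rcases hrep g with h | h | h | h
    · exact hKab g h w hw
    · have h3 := hKab _ h w hw
      have h4 : g * w * x = w * g * x := by rw [mul_assoc, hwx, ← mul_assoc, h3, mul_assoc]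
      exact mul_right_cancel h4
    · have h3 := hKab _ h w hw
      have h4 : g * w * y = w * g * y := by rw [mul_assoc, hwy, ← mul_assoc, h3, mul_assoc]
      exact mul_right_cancel h4
    · have h3 := hKab _ h w hw
      have h4 : g * w * (x * y) = w * g * (x * y) := by
        rw [mul_assoc, ← mul_assoc w x y, hwx, mul_assoc x w y, hwy, ← mul_assoc x y w,
          ← mul_assoc, h3, mul_assoc]
      exact mul_right_cancel h4
  have h3 := Subgroup.card_le_of_le hKZ
  omega

/-- **Package F2.** Defect groups of order `16` with centre of order `2`. -/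
theorem rank_le_three_of_center_two {G : Type*} [Group G] [Finite G] {M : Ideal AlgInt}
    (hM : IsPModular 2 M) {B : Set (IrrCharacter G)} (hB : IsPBlock M B) {D : Subgroup G}
    (hD : IsDefectGroup 2 M B D) (h16 : Nat.card D = 16)
    (hZ : Nat.card (Subgroup.center D) = 2) : blockRank 2 B ≤ 3 := by
  have hp : Fact (Nat.Prime 2) := ⟨Nat.prime_two⟩
  have hP : IsPGroup 2 D := IsPGroup.of_card (n := 4) (by rw [h16]; norm_num)
  have hna : ¬ ∀ a b : D, a * b = b * a := by
    intro h
    have h1 : center D = ⊤ := by
      rw [eq_top_iff]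
      intro g _
      rw [mem_center_iff]
      intro z
      exact h z g
    rw [h1, Subgroup.card_top, h16] at hZ
    omega
  rcases H772.cases_of_index_le hP hna (index_commutator_le_four h16 hZ) with
    ⟨n, ⟨e⟩⟩ | h | ⟨n, ⟨e⟩⟩
  · have h1 : n = 8 := by
      have h2 := Nat.card_congr e.toEquiv
      rw [h16, DihedralGroup.nat_card] at h2
      omega
    subst h1
    exact (S4528.result M hM B hB D hD 4 (by norm_num) ⟨e⟩).2.2.1
  · exact (S4529.result M hM B hB D hD 4 le_rfl (by rw [h16]; norm_num) h).2.2.1
  · have h1 : n = 4 := by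
      have h2 := Nat.card_congr e.toEquiv
      rcases Nat.eq_zero_or_pos n with h0 | h0
      · subst h0
        exfalso
        have h3 : Finite (QuaternionGroup 0) := Finite.of_equiv D e.toEquiv
        have h4 : Infinite (QuaternionGroup 0) := by
          refine Infinite.of_injective (fun i : ℤ => (QuaternionGroup.a (i : ZMod (2 * 0)) :
            QuaternionGroup 0)) ?_
          intro i j hij
          have h5 := QuaternionGroup.a.inj hij
          change (Int.cast i : ℤ) = (Int.cast j : ℤ) at h5
          simpa using h5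
        exact not_finite (QuaternionGroup 0)
      · have : NeZero n := ⟨h0.ne'⟩
        rw [h16, Nat.card_eq_fintype_card, QuaternionGroup.card] at h2
        omega
    subst h1
    exact (S4530.result M hM B hB D hD 4 (by norm_num) ⟨e⟩).2.1

end Cfsg.Agent.H639.MaxClass
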